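import Cfsg.Agent.H129.Car.Conn
import Cfsg.Agent.H129.AO.Dec

/-!
# Carter subgroups, `²E₆(q)`: the automorphisms (S3852, T7, helper129)

* `aut_tw` : every automorphism of `²E₆(q)` is of the form `x ↦ s (phi_j x) s⁻¹` with `σ s = s`;
* `autSt_tw` : `AutSt`.
-/

set_option autoImplicit false
set_option linter.unusedSectionVars false

namespace Cfsg.Agent.H129.Car

open CoxeterSystem Cfsg Cfsg.Lie Cfsg.Lie.ChevalleyDatum
open Cfsg.Agent.ChevalleyStructure Cfsg.Agent.ChevalleyStructure.Elts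
open Cfsg.Agent.GpExc.Field Cfsg.Agent.H720.TwFr Cfsg.Agent.H607.Car
open Cfsg.Agent.BpExc.FamUntw (phi)

variable {r n q : ℕ} [Fact r.Prime] {K : Type} [Field K] [Fintype K] (f : K →+* Kb r)

/-- the field automorphisms of `²E₆(q)` -/
theorem em6_st {τ : K ≃+* K} {j : ℕ} (hτ : ∀ a, τ a = a ^ r ^ j) (x : ↥(twistedE6 K q)) :
    em6 q f (Cfsg.Agent.CpAut.RgdTwE6.st q τ x) = phi chevE6 (Kb r) r j (em6 q f x) := by
  apply Subtype.ext
  apply Units.ext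
  rw [Cfsg.Agent.BpExc.FamUntw.phi_coe, Cfsg.Agent.BpExc.FamTw.Six.coe_em, Cfsg.Agent.BpExc.FamTw.Six.coe_em,
    coe_glMap, coe_glMap]
  ext a b
  show f (τ (((x : GL chevE6.Idx K) : Matrix chevE6.Idx chevE6.Idx K) a b)) =
    (f (((x : GL chevE6.Idx K) : Matrix chevE6.Idx chevE6.Idx K) a b)) ^ r ^ j
  rw [hτ, map_pow]

/-- **The automorphisms of `²E₆(q)`.** -/
theorem aut_tw (hn0 : 0 < n) (hn : q = r ^ n) (hK : Fintype.card K = q ^ 2) (α : MulAut ↥(twistedE6 K q)) :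
    ∃ (s : Yb r) (j : ℕ), sig6 (Kb r) r n s = s ∧
      ∀ x, em6 q f (α x) = s * phi chevE6 (Kb r) r j (em6 q f x) * s⁻¹ := by
  have hrp : r.Prime := Fact.out
  have hq : IsPrimePow q := (isPrimePow_nat_iff _).2 ⟨r, n, hrp, hn0, hn.symm⟩
  have hchar : CharP K r := (f.charP_iff f.injective r).2 inferInstance
  obtain ⟨φ, hφ, hqq⟩ := Cfsg.Agent.ChevalleyStructure.TwE6Basic.exists_frob hq hK
  obtain ⟨δ, ⟨s, hs, hδ⟩, τ, rfl⟩ := Cfsg.Agent.H129.AO.exists_dec (p := r) f hφ hqq hn hq hK α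
  obtain ⟨j, hj⟩ := Cfsg.Agent.BpExc.FamField.exists_pow_eq r τ
  refine ⟨s, j, by rw [sig6_eq]; exact hs, fun x => ?_⟩
  rw [em6_eq f hq hK, MulAut.mul_apply, hδ, ← em6_eq f hq hK, em6_st f hj]

/-- **T7, `²E₆(q)`.** -/
theorem autSt_tw (hn0 : 0 < n) (hn : q = r ^ n) (hK : Fintype.card K = q ^ 2) : AutSt r (em6 q f) := by
  intro α _
  obtain ⟨s, j, -, h⟩ := aut_tw f hn0 hn hK α
  exact ⟨s, j, h⟩

end Cfsg.Agent.H129.Car
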